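import Mathlib
import Cfsg.Agent.H634.TwoA

/-!
# S4874, `p = 2`: the interface (helper844)

* `Five M G` : `k(B₀) = 5` and `l(B₀) ≥ 2` (`p = 2`);
* `wt x` : `1` if `C(x)` has a normal 2-complement, `2` otherwise;
* `Five.sum_wt_le` : pairwise nonconjugate nontrivial 2-elements of `G` have total weight at most 3;
* `Rich S` : `S` contains nontrivial 2-elements of total weight at least 4 which are told apart by their orders and
  the orders of their centralizers; `Five.not_rich` : no normal subgroup of `G` is rich;
* `Sit M G S` : the situation after the reduction to a simple normal subgroup of odd index.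
-/

set_option autoImplicit false

open Cfsg

namespace Cfsg.Agent.H844.K5

open Cfsg.Agent.H634

/-- nontrivial 2-element -/
def El {G : Type*} [Group G] (x : G) : Prop := (∃ k : ℕ, orderOf x = 2 ^ k) ∧ x ≠ 1

/-- `k(B₀) = 5` and `l(B₀) ≥ 2`, `p = 2`. -/
structure Five (M : Ideal AlgInt) (G : Type*) [Group G] [Finite G] : Prop where
  card : Nat.card (principalBlock M G) = 5
  rank : 2 ≤ blockRank 2 (principalBlock M G)

open Classical in
/-- The weight of a 2-element. -/
noncomputable def wt {G : Type*} [Group G] (x : G) : ℕ :=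
  if HasNormalPComplement 2 ↥(Subgroup.centralizer ({x} : Set G)) then 1 else 2

theorem one_le_wt {G : Type*} [Group G] (x : G) : 1 ≤ wt x := by
  unfold wt
  split_ifs <;> norm_num

theorem wt_eq_two {G : Type*} [Group G] {x : G}
    (h : ¬ HasNormalPComplement 2 ↥(Subgroup.centralizer ({x} : Set G))) : wt x = 2 := if_neg h

section

variable {G : Type*} [Group G] [Finite G] {M : Ideal AlgInt}

theorem wt_le_rank (hM : IsPModular 2 M) (x : G) :
    wt x ≤ blockRank 2 (principalBlock M ↥(Subgroup.centralizer ({x} : Set G))) := by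
  have : Fact (Nat.Prime 2) := ⟨Nat.prime_two⟩
  have := Fintype.ofFinite ↥(Subgroup.centralizer ({x} : Set G))
  have h1 := Cols.blockRank_pos (G := ↥(Subgroup.centralizer ({x} : Set G))) hM
  unfold wt
  split_ifs with h
  · exact h1
  · by_contra hc
    exact h (S4646.compl_of_rank_one hM (by omega))

/-- Pairwise nonconjugate nontrivial 2-elements have total weight at most 3. -/
theorem Five.sum_wt_le (h : Five M G) (hM : IsPModular 2 M) (T : Finset G) (hT : ∀ x ∈ T, El x)
    (hinj : ∀ x ∈ T, ∀ y ∈ T, IsConj x y → x = y) : ∑ x ∈ T, wt x ≤ 3 := by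
  classical
  have : Fact (Nat.Prime 2) := ⟨Nat.prime_two⟩
  have h1 : (1 : G) ∉ T := fun h1 => (hT 1 h1).2 rfl
  have h2 := TwoA.sum_rank_le (p := 2) (G := G) hM (insert 1 T)
    (by
      intro x hx
      rcases Finset.mem_insert.1 hx with rfl | hx
      · exact ⟨0, by simp⟩
      · exact (hT x hx).1)
    (by
      intro x hx y hy hxy
      rcases Finset.mem_insert.1 hx with rfl | hx
      · exact (isConj_one_right.1 hxy).symm
      rcases Finset.mem_insert.1 hy with rfl | hy
      · exact isConj_one_left.1 hxy
      · exact hinj x hx y hy hxy)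
  rw [Finset.sum_insert h1, TwoA.rank_one_eq hM, h.card] at h2
  have h3 : ∑ x ∈ T, wt x ≤ ∑ x ∈ T, blockRank 2 (principalBlock M ↥(Subgroup.centralizer ({x} : Set G))) :=
    Finset.sum_le_sum fun x _ => wt_le_rank hM x
  have h4 := h.rank
  omega

end

/-- `S` contains nontrivial 2-elements of total weight at least 4 which are told apart by their orders and the
orders of their centralizers in `S`. -/
def Rich (S : Type*) [Group S] : Prop :=
  ∃ T : Finset S, (∀ x ∈ T, El x) ∧
    (∀ x ∈ T, ∀ y ∈ T, orderOf x = orderOf y →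
      Nat.card ↥(Subgroup.centralizer ({x} : Set S)) = Nat.card ↥(Subgroup.centralizer ({y} : Set S)) → x = y) ∧
    4 ≤ ∑ x ∈ T, wt x

/-- Weights grow along injective homomorphisms. -/
theorem wt_mono {S G : Type*} [Group S] [Group G] [Finite S] [Finite G] (f : S →* G)
    (hf : Function.Injective f) (x : S) : wt x ≤ wt (f x) := by
  have : Fact (Nat.Prime 2) := ⟨Nat.prime_two⟩
  unfold wt
  split_ifs with h1 h2 h2
  · exact le_rfl
  · norm_num
  · refine absurd ?_ h1
    have hle : (Subgroup.centralizer ({x} : Set S)).map f ≤ Subgroup.centralizer ({f x} : Set G) := by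
      rintro _ ⟨z, hz, rfl⟩
      have hz' := Subgroup.mem_centralizer_singleton_iff.1 hz
      refine Subgroup.mem_centralizer_singleton_iff.2 ?_
      rw [← map_mul, ← map_mul, hz']
    exact ZJ.hasNormalPComplement_of_injective
      ((Subgroup.inclusion hle).comp (f.subgroupMap _))
      ((Subgroup.inclusion_injective hle).comp fun a b hab => by
        have h3 := congrArg Subtype.val hab
        exact Subtype.ext (hf h3)) h2
  · exact le_rfl

theorem nonempty_centralizer_equiv {S S' : Type*} [Group S] [Group S'] (e : S ≃* S') (x : S) :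
    Nonempty (↥(Subgroup.centralizer ({x} : Set S)) ≃* ↥(Subgroup.centralizer ({e x} : Set S'))) := by
  have h1 : (Subgroup.centralizer ({x} : Set S)).map e.toMonoidHom = Subgroup.centralizer ({e x} : Set S') := by
    ext y
    constructor
    · rintro ⟨z, hz, rfl⟩
      have hz' := Subgroup.mem_centralizer_singleton_iff.1 hz
      refine Subgroup.mem_centralizer_singleton_iff.2 ?_
      change e z * e x = e x * e z
      rw [← map_mul, ← map_mul, hz']
    · intro hy
      have hy' := Subgroup.mem_centralizer_singleton_iff.1 hy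
      refine ⟨e.symm y, Subgroup.mem_centralizer_singleton_iff.2 (e.injective ?_), e.apply_symm_apply y⟩
      rw [map_mul, map_mul, e.apply_symm_apply, hy']
  exact ⟨(e.subgroupMap _).trans (MulEquiv.subgroupCongr h1)⟩

theorem El.map {S S' : Type*} [Group S] [Group S'] {x : S} (h : El x) (f : S →* S') (hf : Function.Injective f) :
    El (f x) := by
  obtain ⟨⟨k, hk⟩, h1⟩ := h
  exact ⟨⟨k, by rw [orderOf_injective f hf, hk]⟩, fun h2 => h1 ((map_eq_one_iff f hf).1 h2)⟩

theorem Rich.congr {S S' : Type*} [Group S] [Group S'] [Finite S] [Finite S'] (e : S ≃* S') (h : Rich S) :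
    Rich S' := by
  classical
  have hc := nonempty_centralizer_equiv e
  obtain ⟨T, hT, hinj, hw⟩ := h
  refine ⟨T.image e, ?_, ?_, ?_⟩
  · intro y hy
    obtain ⟨x, hx, rfl⟩ := Finset.mem_image.1 hy
    exact (hT x hx).map e.toMonoidHom e.injective
  · intro y hy y' hy' ho hcard
    obtain ⟨x, hx, rfl⟩ := Finset.mem_image.1 hy
    obtain ⟨x', hx', rfl⟩ := Finset.mem_image.1 hy'
    rw [MulEquiv.orderOf_eq, MulEquiv.orderOf_eq] at ho
    rw [← Nat.card_congr (hc x).some.toEquiv, ← Nat.card_congr (hc x').some.toEquiv] at hcard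
    rw [hinj x hx x' hx' ho hcard]
  · rw [Finset.sum_image fun a _ b _ h => e.injective h]
    exact hw.trans (Finset.sum_le_sum fun x _ => wt_mono e.toMonoidHom e.injective x)

/-- A conjugation of `G` restricted to a normal subgroup. -/
theorem card_centralizer_of_isConj {G : Type*} [Group G] {S : Subgroup G} (hS : S.Normal) {x y : S}
    (h : IsConj (x : G) (y : G)) : orderOf x = orderOf y ∧
    Nat.card ↥(Subgroup.centralizer ({x} : Set S)) = Nat.card ↥(Subgroup.centralizer ({y} : Set S)) := by
  obtain ⟨g, hg⟩ := isConj_iff.1 h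
  have hxy : MulAut.conjNormal g x = y := Subtype.ext hg
  rw [← hxy]
  exact ⟨(MulEquiv.orderOf_eq _ x).symm,
    Nat.card_congr (nonempty_centralizer_equiv (MulAut.conjNormal g) x).some.toEquiv⟩

/-- **No normal subgroup is rich.** -/
theorem Five.not_rich {G : Type*} [Group G] [Finite G] {M : Ideal AlgInt} (h : Five M G)
    (hM : IsPModular 2 M) {S : Subgroup G} (hS : S.Normal) : ¬ Rich S := by
  classical
  rintro ⟨T, hT, hinj, hw⟩
  have h1 := h.sum_wt_le hM (T.image (Subtype.val : S → G))
    (by
      intro y hy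
      obtain ⟨x, hx, rfl⟩ := Finset.mem_image.1 hy
      exact (hT x hx).map S.subtype S.subtype_injective)
    (by
      intro y hy y' hy' hyy
      obtain ⟨x, hx, rfl⟩ := Finset.mem_image.1 hy
      obtain ⟨x', hx', rfl⟩ := Finset.mem_image.1 hy'
      have h2 := card_centralizer_of_isConj hS hyy
      rw [hinj x hx x' hx' h2.1 h2.2])
  rw [Finset.sum_image fun a _ b _ h => Subtype.ext h] at h1
  have h2 : ∑ x ∈ T, wt x ≤ ∑ x ∈ T, wt (x : G) :=
    Finset.sum_le_sum fun x _ => wt_mono S.subtype S.subtype_injective x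
  omega

/-- The situation after the reduction: `S` is a simple normal subgroup of odd index. -/
structure Sit (M : Ideal AlgInt) (G : Type*) [Group G] [Finite G] (S : Subgroup G) : Prop where
  modular : IsPModular 2 M
  five : Five M G
  dvd : 16 ∣ Nat.card G
  ndvd : ¬ 128 ∣ Nat.card G
  normal : S.Normal
  simple : IsSimpleGroup S
  noncomm : ¬ IsMulCommutative S
  cent : Subgroup.centralizer (S : Set G) = ⊥
  odd : Odd S.index

theorem Sit.not_rich {M : Ideal AlgInt} {G : Type*} [Group G] [Finite G] {S : Subgroup G} (h : Sit M G S) :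
    ¬ Rich S := h.five.not_rich h.modular h.normal

/-- Type of a row of the table. -/
def Row.{u} (X : Type) [Group X] : Prop :=
  ∀ (M : Ideal AlgInt) (G : Type u) [Group G] [Finite G] (S : Subgroup G), Sit M G S → Nonempty (S ≃* X) → False

theorem Row.of_rich.{u} {X : Type} [Group X] [Finite X] (h : Rich X) : Row.{u} X :=
  fun _ _ _ _ _ hS e => hS.not_rich (h.congr e.some.symm)

end Cfsg.Agent.H844.K5
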