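import Mathlib
import Cfsg.Agent.H61.K5.AbelB
import Cfsg.Agent.S4570
import Cfsg.Agent.S4646

/-!
# S4874, `p = 2`: abelian Sylow 2-subgroups of order 8 (helper844)
-/

set_option autoImplicit false

open Cfsg Subgroup

namespace Cfsg.Agent.H844.K5

universe u

/-- An automorphism of a group of order 8 that fixes a non-identity element and has order coprime to 6 is trivial. -/
theorem aut_eq_one {P : Type*} [Group P] [Finite P] (h8 : Nat.card P = 8) (α : MulAut P) {k : ℕ} (hk : α ^ k = 1)
    (h2 : ¬ 2 ∣ k) (h3 : ¬ 3 ∣ k) {z : P} (hz : z ≠ 1) (hα : α z = z) : α = 1 := by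
  have hk0 : k ≠ 0 := by rintro rfl; exact h2 (dvd_zero 2)
  by_contra hne
  have ho : orderOf α ∣ k := orderOf_dvd_of_pow_eq_one hk
  have ho1 : orderOf α ≠ 1 := fun h => hne (orderOf_eq_one_iff.1 h)
  obtain ⟨r, hr, hrd⟩ := Nat.exists_prime_and_dvd ho1
  have hr2 : r ≠ 2 := by rintro rfl; exact h2 (hrd.trans ho)
  have hr3 : r ≠ 3 := by rintro rfl; exact h3 (hrd.trans ho)
  obtain ⟨m, hm⟩ := hrd
  have ho0 : 0 < orderOf α := orderOf_pos_iff.2 (isOfFinOrder_iff_pow_eq_one.2 ⟨k, Nat.pos_of_ne_zero hk0, hk⟩)
  have hm0 : 0 < m := by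
    rcases Nat.eq_zero_or_pos m with h | h
    · rw [h, mul_zero] at hm; omega
    · exact h
  set β : MulAut P := α ^ m with hβ
  have hβr : orderOf β = r := by
    rw [hβ, orderOf_pow_of_dvd hm0.ne' (hm ▸ Dvd.intro_left r rfl), hm, Nat.mul_div_cancel _ hm0]
  have hβz : β z = z := by
    rw [hβ]
    have : ∀ j : ℕ, (α ^ j) z = z := by
      intro j
      induction j with
      | zero => rfl
      | succ j ih => rw [pow_succ, MulAut.mul_apply, hα, ih]
    exact this m
  have hfact : Fact r.Prime := ⟨hr⟩
  have hpg : IsPGroup r (zpowers β) := IsPGroup.of_card (n := 1) (by rw [Nat.card_zpowers, hβr, pow_one])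
  have hmod := hpg.card_modEq_card_fixedPoints P
  -- the fixed points form a subgroup
  let F : Subgroup P :=
    { carrier := {x | β x = x}
      mul_mem' := fun {a b} ha hb => by
        change β (a * b) = a * b
        rw [map_mul, show β a = a from ha, show β b = b from hb]
      one_mem' := map_one β
      inv_mem' := fun {a} ha => by
        change β a⁻¹ = a⁻¹
        rw [map_inv, show β a = a from ha] }
  have hF : (MulAction.fixedPoints (zpowers β) P) = (F : Set P) := by
    ext x
    constructor
    · intro hx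
      exact hx ⟨β, mem_zpowers β⟩
    · rintro hx ⟨γ, hγ⟩
      obtain ⟨j, rfl⟩ := mem_zpowers_iff.1 hγ
      change (β ^ j) x = x
      have hst : β ∈ MulAction.stabilizer (MulAut P) x := hx
      exact (MulAction.stabilizer (MulAut P) x).zpow_mem hst j
  rw [hF, h8] at hmod
  have hcF : Nat.card F ∣ 8 := h8 ▸ F.card_subgroup_dvd_card
  have hF1 : Nat.card F ≠ 1 := by
    intro h
    have h1 := (Subgroup.card_eq_one.1 h)
    have h2 : z ∈ F := hβz
    rw [h1] at h2
    exact hz (mem_bot.1 h2)
  have hF8 : Nat.card F ≠ 8 := by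
    intro h
    have h1 : F = ⊤ := Subgroup.eq_top_of_card_eq F (by rw [h, h8])
    have h2 : β = 1 := by
      ext x
      have : x ∈ F := h1 ▸ mem_top x
      exact this
    rw [h2, orderOf_one] at hβr
    exact hr.one_lt.ne hβr
  have h24 : Nat.card F = 2 ∨ Nat.card F = 4 := by
    have h0 : Nat.card F ≤ 8 := Nat.le_of_dvd (by norm_num) hcF
    generalize Nat.card F = c at *
    interval_cases c <;> omega
  have hF' : Nat.card (F : Set P) = Nat.card F := rfl
  rw [hF'] at hmod
  have hr5 : 5 ≤ r := by
    have h0 := hr.two_le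
    have h4 : r ≠ 4 := by rintro rfl; norm_num at hr
    omega
  rcases h24 with h | h
  · rw [h] at hmod
    have h6 : r ∣ 6 := by
      have := (Nat.modEq_iff_dvd' (by norm_num : 2 ≤ 8)).1 hmod.symm
      simpa using this
    have h7 : r ∣ 2 * 3 := h6
    rcases (Nat.Prime.dvd_mul hr).1 h7 with h8 | h8
    · have := Nat.le_of_dvd (by norm_num) h8; omega
    · have := Nat.le_of_dvd (by norm_num) h8; omega
  · rw [h] at hmod
    have h6 : r ∣ 4 := by
      have := (Nat.modEq_iff_dvd' (by norm_num : 4 ≤ 8)).1 hmod.symm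
      simpa using this
    have := Nat.le_of_dvd (by norm_num) h6
    omega

variable {G : Type u} [Group G] [Finite G] {M : Ideal AlgInt}

/-- The centralizer of an involution of an abelian Sylow 2-subgroup of order 8 has a normal 2-complement when `3` does
not divide `|N(P) : C(P)|`. -/
theorem compl_centralizer (P : Sylow 2 G) (hP : Nat.card (P : Subgroup G) = 8)
    (hab : ∀ a ∈ P, ∀ b ∈ P, a * b = b * a)
    (h3 : ¬ 3 ∣ (centralizer ((P : Subgroup G) : Set G)).relIndex (normalizer ((P : Subgroup G) : Set G)))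
    {z : G} (hz : z ∈ P) (hz1 : z ≠ 1) : HasNormalPComplement 2 ↥(centralizer ({z} : Set G)) := by
  have hp : Fact (Nat.Prime 2) := ⟨Nat.prime_two⟩
  have hPH : (P : Subgroup G) ≤ centralizer ({z} : Set G) := by
    intro x hx
    exact mem_centralizer_singleton_iff.2 (hab x hx z hz)
  set Q : Sylow 2 ↥(centralizer ({z} : Set G)) := P.subtype hPH with hQ
  have hQm : ∀ x : ↥(centralizer ({z} : Set G)), x ∈ (Q : Subgroup ↥(centralizer ({z} : Set G))) ↔ (x : G) ∈ P := fun x => Iff.rfl
  have hPC : (P : Subgroup G) ≤ centralizer ((P : Subgroup G) : Set G) := by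
    intro x hx
    exact mem_centralizer_iff.2 fun y hy => hab y hy x hx
  have hCN : centralizer ((P : Subgroup G) : Set G) ≤ normalizer ((P : Subgroup G) : Set G) := by
    intro x hx
    rw [mem_normalizer_iff]
    intro y
    have h0 : ∀ w ∈ (P : Subgroup G), x * w * x⁻¹ = w := fun w hw => by
      rw [← (mem_centralizer_iff.1 hx) w hw, mul_inv_cancel_right]
    constructor
    · intro hy
      have := h0 y hy
      change x * y * x⁻¹ ∈ (P : Subgroup G)
      rw [this]
      exact hy
    · intro hy
      have h1 : x * (x * y * x⁻¹) * x⁻¹ = x * y * x⁻¹ := h0 _ hy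
      have h2 : x * y * x⁻¹ = y := by
        have h3 : x * (x * y * x⁻¹) = x * y := mul_right_cancel h1
        exact mul_left_cancel h3
      rw [← h2]
      exact hy
  have h2 : ¬ 2 ∣ (centralizer ((P : Subgroup G) : Set G)).relIndex (normalizer ((P : Subgroup G) : Set G)) := by
    intro hd
    have h4 := relIndex_dvd_of_le_left (normalizer ((P : Subgroup G) : Set G)) hPC
    have h5 : (P : Subgroup G).relIndex (normalizer ((P : Subgroup G) : Set G)) ∣ (P : Subgroup G).index :=
      Dvd.intro _ (relIndex_mul_index (hPC.trans hCN))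
    exact P.not_dvd_index (hd.trans (h4.trans h5))
  have hnc : normalizer ((Q : Subgroup ↥(centralizer ({z} : Set G))) : Set ↥(centralizer ({z} : Set G))) ≤
      centralizer ((Q : Subgroup ↥(centralizer ({z} : Set G))) : Set ↥(centralizer ({z} : Set G))) := by
    intro n hn
    have hnN : (n : G) ∈ normalizer ((P : Subgroup G) : Set G) := by
      rw [mem_normalizer_iff] at hn ⊢
      intro y
      constructor
      · intro hy
        exact (hn ⟨y, hPH hy⟩).1 hy
      · intro hy
        have h4 : (n : G)⁻¹ * ((n : G) * y * (n : G)⁻¹) * (n : G) = y := by group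
        have h5 : y ∈ centralizer ({z} : Set G) := by
          rw [← h4]
          exact mul_mem (mul_mem (inv_mem n.2) (hPH hy)) n.2
        exact (hn ⟨y, h5⟩).2 hy
    set α : MulAut (P : Subgroup G) := (P : Subgroup G).normalizerMonoidHom ⟨(n : G), hnN⟩ with hα
    have hαz : α ⟨z, hz⟩ = ⟨z, hz⟩ := by
      apply Subtype.ext
      change (n : G) * z * (n : G)⁻¹ = z
      rw [mem_centralizer_singleton_iff.1 n.2, mul_inv_cancel_right]
    have hpow : α ^ ((centralizer ((P : Subgroup G) : Set G)).relIndex (normalizer ((P : Subgroup G) : Set G))) = 1 := by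
      rw [hα, ← map_pow]
      have hker := (P : Subgroup G).normalizerMonoidHom_ker
      have hnorm : ((centralizer ((P : Subgroup G) : Set G)).subgroupOf (normalizer ((P : Subgroup G) : Set G))).Normal := by
        rw [← hker]
        infer_instance
      have h4 := Subgroup.pow_index_mem ((P : Subgroup G).normalizerMonoidHom.ker)
        (⟨(n : G), hnN⟩ : ↥(normalizer ((P : Subgroup G) : Set G)))
      have h5 : (P : Subgroup G).normalizerMonoidHom.ker.index =
          (centralizer ((P : Subgroup G) : Set G)).relIndex (normalizer ((P : Subgroup G) : Set G)) := by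
        rw [hker]
        rfl
      rw [h5] at h4
      exact h4
    have h1 := aut_eq_one hP α hpow h2 h3 (z := ⟨z, hz⟩) (fun h => hz1 (congrArg Subtype.val h)) hαz
    rw [mem_centralizer_iff]
    intro y hy
    have h4 : α ⟨(y : G), hy⟩ = ⟨(y : G), hy⟩ := by rw [h1]; rfl
    have h5 : (n : G) * (y : G) * (n : G)⁻¹ = y := congrArg Subtype.val h4
    apply Subtype.ext
    change (y : G) * (n : G) = (n : G) * (y : G)
    exact (mul_inv_eq_iff_eq_mul.1 h5).symm
  exact ⟨Q, (MonoidHom.transferSylow Q hnc).ker, inferInstance,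
    MonoidHom.ker_transferSylow_isComplement' Q hnc⟩

/-- An abelian Sylow 2-subgroup of order 8: the principal block does not have five characters. -/
theorem abel_ne_five (hM : IsPModular 2 M) (P : Sylow 2 G) (hP : Nat.card (P : Subgroup G) = 8)
    (hab : ∀ a ∈ P, ∀ b ∈ P, a * b = b * a) : Nat.card (principalBlock M G) ≠ 5 := by
  have hp : Fact (Nat.Prime 2) := ⟨Nat.prime_two⟩
  by_cases h3 : 3 ∣ (centralizer ((P : Subgroup G) : Set G)).relIndex (normalizer ((P : Subgroup G) : Set G))
  · exact H61.K5.ne_five hM P hP hab h3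
  · obtain ⟨z, hz⟩ := exists_prime_orderOf_dvd_card' (G := (P : Subgroup G)) 2 (by rw [hP]; norm_num)
    have hz1 : (z : G) ≠ 1 := by
      intro h
      have : z = 1 := Subtype.ext h
      rw [this, orderOf_one] at hz
      omega
    have hc := compl_centralizer P hP hab h3 z.2 hz1
    have := Fintype.ofFinite G
    have := Fintype.ofFinite ↥(centralizer ({(z : G)} : Set G))
    have hr := S4646.rank_one_of_compl hM hc
    have h8 := (S4570.result M hM P ⟨⟨fun a b => Subtype.ext (hab a a.2 b b.2)⟩⟩ (z : G)
      (by rw [Subgroup.orderOf_coe]; exact hz) hr).1 hP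
    omega

end Cfsg.Agent.H844.K5
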