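import Mathlib
import Cfsg.Agent.H766.K5.IndexTwo
import Cfsg.Agent.H126.K5.Quot

/-!
# S4874, `p = 2`: no subgroup of index 2 (helper844)
-/

set_option autoImplicit false

open Cfsg

namespace Cfsg.Agent.H844.K5

universe u

theorem index_two {G : Type u} [Group G] [Finite G] {M : Ideal AlgInt} (hM : IsPModular 2 M)
    (hk : Nat.card (principalBlock M G) = 5) (h16 : 16 ∣ Nat.card G) (H : Subgroup G) : H.index ≠ 2 := by
  intro hH
  have : H.Normal := Subgroup.normal_of_index_eq_two hH
  have h1 := Cfsg.Agent.H766.K5.card_normal hM ((by norm_num : 4 ∣ 16).trans h16) hk H hH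
  have h2 := H.card_mul_index
  rw [hH] at h2
  have h3 : 8 ∣ Nat.card H := by omega
  exact H126.K5.not_eight_dvd hM h1.le h3

end Cfsg.Agent.H844.K5
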