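import Mathlib
import Cfsg.Agent.H98.K5.Arith
import Cfsg.Agent.S0925
import Cfsg.Agent.Blocks.PPart

/-!
# S4874, `p = 2`, `64 ∣ |G|` (helper844, after a remark of helper784)

If `k(B₀) = 5` and `64 ∣ |G|` then the degrees of the four nontrivial members of `B₀` are pairwise different, hence
all members of `B₀` are rational valued and every 2-element is conjugate to its powers of exponent prime to `|G|`.
-/

set_option autoImplicit false

open Cfsg

namespace Cfsg.Agent.H844.K5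

open Cfsg.Agent.H98.K5 Cfsg.Agent.H703.Lat Cfsg.Agent.Blocks.Basic

universe u

theorem nodup_L64 : ∀ t ∈ L64, [t.1, t.2.1, t.2.2.1, t.2.2.2].Nodup := by decide

theorem nodup_of_nrm {a b c e : ℕ} (h : [nrm 64 a, nrm 64 b, nrm 64 c, nrm 64 e].Nodup) : [a, b, c, e].Nodup := by
  have h1 : [nrm 64 a, nrm 64 b, nrm 64 c, nrm 64 e] = [a, b, c, e].map (nrm 64) := rfl
  rw [h1] at h
  exact h.of_map _

theorem search64 {a b c e : ℕ} (ha : a % 2 = 1) (hb : b % 2 = 1) (hc : c % 2 = 1) (he : e % 4 = 2)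
    (h : ∀ j, j ≤ 6 → Hyp (2 ^ j) a b c e) : [a, b, c, e].Nodup := by
  have h4 : (nrm 4 a, nrm 4 b, nrm 4 c, nrm 4 e) ∈ L4 := by
    have h1 : nrm 4 a = 1 := by unfold nrm; omega
    have h2 : nrm 4 b = 1 := by unfold nrm; omega
    have h3 : nrm 4 c = 1 := by unfold nrm; omega
    have h5 : nrm 4 e = 2 := by unfold nrm; omega
    rw [h1, h2, h3, h5]
    exact List.mem_singleton.2 rfl
  have h8 := step_sound (Q := 4) (by norm_num) step4 (h 3 (by norm_num)) h4
  have h16 := step_sound (Q := 8) (by norm_num) step8 (h 4 (by norm_num)) h8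
  have h32 := step_sound (Q := 16) (by norm_num) step16 (h 5 (by norm_num)) h16
  have h64 := step_sound (Q := 32) (by norm_num) step32 (h 6 (by norm_num)) h32
  exact nodup_of_nrm (nodup_L64 _ h64)

theorem searchS64 {a b c e : ℕ} (h : ∀ j, j ≤ 6 → HypS (2 ^ j) a b c e) : [a, b, c, e].Nodup := by
  have h8 := (h 3 (by norm_num)).sq
  norm_num at h8
  rcases sq_mod8 a with ⟨ha, ha'⟩ | ⟨ha, ha'⟩ | ⟨ha, ha'⟩ <;>
  rcases sq_mod8 b with ⟨hb, hb'⟩ | ⟨hb, hb'⟩ | ⟨hb, hb'⟩ <;>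
  rcases sq_mod8 c with ⟨hc, hc'⟩ | ⟨hc, hc'⟩ | ⟨hc, hc'⟩ <;>
  rcases sq_mod8 e with ⟨he, he'⟩ | ⟨he, he'⟩ | ⟨he, he'⟩ <;>
  first
  | (exfalso; omega)
  | exact search64 ha hb hc he fun j hj => (h j hj).hyp
  | exact ((show ([a, b, c, e] : List ℕ).Perm [a, b, e, c] from ((List.Perm.swap e c []).cons b).cons a).nodup_iff).2
      (search64 ha hb he hc fun j hj => ((h j hj).of_perm (((List.Perm.swap e c []).cons b).cons a)).hyp)
  | exact ((show ([a, b, c, e] : List ℕ).Perm [a, c, e, b] from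
        (List.perm_append_comm (l₁ := [b]) (l₂ := [c, e])).cons a).nodup_iff).2
      (search64 ha hc he hb fun j hj => ((h j hj).of_perm
      (show ([a, b, c, e] : List ℕ).Perm [a, c, e, b] from (List.perm_append_comm (l₁ := [b]) (l₂ := [c, e])).cons a)).hyp)
  | exact ((show ([a, b, c, e] : List ℕ).Perm [b, c, e, a] from
        List.perm_append_comm (l₁ := [a]) (l₂ := [b, c, e])).nodup_iff).2
      (search64 hb hc he ha fun j hj => ((h j hj).of_perm
      (show ([a, b, c, e] : List ℕ).Perm [b, c, e, a] from List.perm_append_comm (l₁ := [a]) (l₂ := [b, c, e]))).hyp)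

variable {G : Type u} [Group G] [Finite G] {M : Ideal AlgInt}

/-- The trivial character. -/
abbrev triv (G : Type u) [Group G] [Finite G] : IrrCharacter G := ⟨fun _ => 1, isIrrCharacter_one⟩

theorem degrees_inj (hM : IsPModular 2 M) (h5 : Nat.card (principalBlock M G) = 5) (hd : 64 ∣ Nat.card G)
    {χ ψ : IrrCharacter G} (hχ : χ ∈ B0 M G) (hψ : ψ ∈ B0 M G) (hχ1 : χ ≠ triv G) (hψ1 : ψ ≠ triv G)
    (h : charDegree (χ : G → ℂ) = charDegree (ψ : G → ℂ)) : χ = ψ := by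
  classical
  have hone := one_mem_B0 (G := G) hM
  have hc : ((B0 M G).erase (triv G)).card = 4 := by
    rw [Finset.card_erase_of_mem hone, card_B0, h5]
  obtain ⟨l, hl⟩ : ∃ l : List (IrrCharacter G), (l : Multiset (IrrCharacter G)) =
      ((B0 M G).erase (triv G)).val :=
    ⟨_, Multiset.coe_toList _⟩
  have hlen : l.length = 4 := by
    have h1 := congrArg Multiset.card hl
    rw [Multiset.coe_card] at h1
    rw [h1]
    exact hc
  obtain ⟨x, y, z, w, rfl⟩ : ∃ x y z w, l = [x, y, z, w] := by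
    match l, hlen with
    | [x, y, z, w], _ => exact ⟨x, y, z, w, rfl⟩
  have hs : ∀ f : ℕ → ℕ, ∑ χ ∈ B0 M G, f (charDegree (χ : G → ℂ)) = f 1 + (f (charDegree (x : G → ℂ)) +
      (f (charDegree (y : G → ℂ)) + (f (charDegree (z : G → ℂ)) + f (charDegree (w : G → ℂ))))) := by
    intro f
    rw [← Finset.add_sum_erase _ _ hone, charDegree_triv, Finset.sum, ← hl]
    simp
  have hnd := searchS64 (a := charDegree (x : G → ℂ)) (b := charDegree (y : G → ℂ)) (c := charDegree (z : G → ℂ))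
    (e := charDegree (w : G → ℂ)) fun j hj => ⟨by
      have h1 := dvd_sum_sq (G := G) hM (good_principal hM) (a := j)
        ((pow_dvd_pow 2 hj).trans (by norm_num; exact hd))
      have h2 : ((∑ χ ∈ B0 M G, charDegree (χ : G → ℂ) ^ 2 : ℕ) : ℤ) =
          ∑ χ ∈ B0 M G, (charDegree (χ : G → ℂ) : ℤ) ^ 2 := by
        push_cast
        rfl
      rw [← h2] at h1
      have h3 : 2 ^ j ∣ ∑ χ ∈ B0 M G, charDegree (χ : G → ℂ) ^ 2 := by exact_mod_cast h1
      rwa [hs fun n => n ^ 2, one_pow] at h3, fun m => by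
      have h1 := sum_nrm_ge (G := G) hM (good_principal hM) (one_mem_B0 hM) (a := j)
        ((pow_dvd_pow 2 hj).trans (by norm_num; exact hd)) m
      rwa [hs fun n => nrm (2 ^ j) (m * n) ^ 2, mul_one] at h1⟩
  have hmem : ∀ φ : IrrCharacter G, φ ∈ B0 M G → φ ≠ triv G → φ ∈ [x, y, z, w] := by
    intro φ h1 h2
    have h3 : φ ∈ (B0 M G).erase (triv G) := Finset.mem_erase.2 ⟨h2, h1⟩
    have h4 : φ ∈ ((B0 M G).erase (triv G)).val := h3
    rw [← hl] at h4
    exact Multiset.mem_coe.1 h4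
  have hnd' : ([x, y, z, w].map fun φ : IrrCharacter G => charDegree (φ : G → ℂ)).Nodup := hnd
  exact List.inj_on_of_nodup_map hnd' (hmem χ hχ hχ1) (hmem ψ hψ hψ1) h

theorem rational (hM : IsPModular 2 M) (h5 : Nat.card (principalBlock M G) = 5) (hd : 64 ∣ Nat.card G)
    {χ : IrrCharacter G} (hχ : χ ∈ B0 M G) {m : ℕ} (hm : m.Coprime (Nat.card G)) (g : G) :
    (χ : G → ℂ) (g ^ m) = (χ : G → ℂ) g := by
  by_cases h1 : χ = triv G
  · rw [h1]
  · have h2 : powIrr hm χ = χ := by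
      refine degrees_inj hM h5 hd ((good_principal hM).pow hm hχ) hχ (fun h => h1 ?_) h1 (charDegree_powIrr hm χ)
      apply powIrr_injective hm
      rw [h]
      rfl
    rw [← powIrr_apply hm, h2]

/-- Every 2-element is conjugate to its powers of exponent prime to `|G|`. -/
theorem isConj_pow (hM : IsPModular 2 M) (h5 : Nat.card (principalBlock M G) = 5) (hd : 64 ∣ Nat.card G)
    {x : G} {k : ℕ} (hx : orderOf x = 2 ^ k) {m : ℕ} (hm : m.Coprime (Nat.card G)) : IsConj x (x ^ m) := by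
  have hp : Fact (Nat.Prime 2) := ⟨Nat.prime_two⟩
  by_contra hcon
  have hx' : IsPPart 2 x x := Blocks.PPart.isPPart_of_isPGroup ⟨k, hx⟩
  have hxm : IsPPart 2 (x ^ m) (x ^ m) := by
    refine Blocks.PPart.isPPart_of_isPGroup ?_
    obtain ⟨j, -, hj⟩ := (Nat.dvd_prime_pow Nat.prime_two).1 (hx ▸ orderOf_pow_dvd (x := x) m)
    exact ⟨j, hj⟩
  have h0 := (S0925.result 2 M hM).2 x (x ^ m) x (x ^ m) hx' hxm hcon (principalBlock M G) isPBlock_principal
  have h1 : ∑ᶠ χ ∈ principalBlock M G, (χ : G → ℂ) x * (χ : G → ℂ) (x ^ m)⁻¹ =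
      ∑ χ ∈ B0 M G, (χ : G → ℂ) x * (χ : G → ℂ) (x ^ m)⁻¹ := by
    rw [← finsum_mem_coe_finset]
    refine finsum_mem_congr ?_ fun _ _ => rfl
    ext χ
    exact mem_B0.symm
  rw [h1] at h0
  have h2 : ∑ χ ∈ B0 M G, (χ : G → ℂ) x * (χ : G → ℂ) (x ^ m)⁻¹ =
      ((∑ χ ∈ B0 M G, Complex.normSq ((χ : G → ℂ) x) : ℝ) : ℂ) := by
    rw [Complex.ofReal_sum]
    refine Finset.sum_congr rfl fun χ hχ => ?_
    rw [Blocks.Orthogonality.irr_apply_inv χ.2, rational hM h5 hd hχ hm, Complex.mul_conj]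
  rw [h2] at h0
  have h3 : ∑ χ ∈ B0 M G, Complex.normSq ((χ : G → ℂ) x) = 0 := by exact_mod_cast h0
  have h4 : Complex.normSq ((triv G : G → ℂ) x) ≤ ∑ χ ∈ B0 M G, Complex.normSq ((χ : G → ℂ) x) :=
    Finset.single_le_sum (f := fun χ : IrrCharacter G => Complex.normSq ((χ : G → ℂ) x))
      (fun χ _ => Complex.normSq_nonneg _) (one_mem_B0 (G := G) hM)
  rw [h3] at h4
  have h5 : ((triv G : IrrCharacter G) : G → ℂ) x = 1 := rfl
  rw [h5, map_one] at h4
  norm_num at h4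

end Cfsg.Agent.H844.K5
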