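import Mathlib
import Cfsg.Agent.H844.K5.Real64
import Cfsg.Agent.H844.K5.Base
import Cfsg.Agent.GH.Defs
import Cfsg.Agent.ThreePrime.SzRel
import Cfsg.Agent.S1163

/-!
# S4874, `p = 2`: the row `Sz(8)` (helper844)
-/

set_option autoImplicit false

open Cfsg Subgroup

namespace Cfsg.Agent.H844.K5

open Cfsg.Agent.ThreePrime.SzRel Cfsg.Agent.GH.Defs

universe u

section rel

variable {J : Type*} [Group J] {F : Type*} [Field F] (R : Cfsg.Agent.ThreePrime.SzRel.Rel J F)

theorem sz_orderOf_x : orderOf (R.u 1 0) = 2 ^ 2 := by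
  have : Fact (Nat.Prime 2) := ⟨Nat.prime_two⟩
  apply orderOf_eq_prime_pow (n := 1)
  · rw [pow_one, pow_two, R.u_sq_iff]
    exact one_ne_zero
  · exact R.pow_four (R.u_mem _ _)

theorem sz_x_inv : (R.u 1 0)⁻¹ = R.u 1 1 := by
  rw [R.u_inv, map_one, mul_one, zero_add]

/-- the element `u 1 0` of order four is not real -/
theorem sz_not_real : ¬ IsConj (R.u 1 0) (R.u 1 0)⁻¹ := by
  intro h
  rw [sz_x_inv] at h
  obtain ⟨g, hg⟩ := isConj_iff.1 h
  have hx1 : R.u 1 0 ≠ 1 := by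
    intro h1
    rw [← R.u_zero] at h1
    exact one_ne_zero (R.u_inj h1).1
  obtain ⟨a, b, k, rfl⟩ := R.exists_ud (R.u_mem 1 0) hx1 (by rw [hg]; exact R.u_mem _ _)
  have h1 : (R.u a b * R.d k) * R.u 1 0 * (R.u a b * R.d k)⁻¹ =
      R.u a b * (R.d k * R.u 1 0 * (R.d k)⁻¹) * (R.u a b)⁻¹ := by group
  rw [h1, R.conj_d, R.conj_u] at hg
  obtain ⟨h2, h3⟩ := R.u_inj hg
  rw [h2, map_one, zero_mul, one_mul, zero_add, mul_one] at h3
  have h4 := congrArg R.θ h3
  rw [map_add, R.sq, map_one] at h4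
  have h5 : a ^ 2 - a = 0 := by linear_combination h4 - h3
  have h6 : a * (a - 1) = 0 := by linear_combination h5
  have h7 := R.two
  rcases mul_eq_zero.1 h6 with h8 | h8
  · rw [h8, map_zero, zero_add] at h3
    exact one_ne_zero h3.symm
  · rw [sub_eq_zero] at h8
    rw [h8, map_one] at h3
    have h9 : (1 : F) = 0 := by linear_combination h7 - h3
    exact one_ne_zero h9

end rel

/-- If `x` is conjugate to its inverse then it is inverted by an element of each normal subgroup of odd index. -/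
theorem exists_inverting {G : Type*} [Group G] [Finite G] (N : Subgroup G) [N.Normal] (hN : Odd N.index)
    {x : G} (h : IsConj x x⁻¹) : ∃ g ∈ N, g * x * g⁻¹ = x⁻¹ := by
  obtain ⟨g, hg⟩ := isConj_iff.1 h
  obtain ⟨k, hk⟩ := hN
  refine ⟨g ^ N.index, N.pow_index_mem g, ?_⟩
  have h0 : MulAut.conj g x = x⁻¹ := hg
  have h1 : (MulAut.conj g ^ 2) x = x := by
    rw [pow_two, MulAut.mul_apply, h0, map_inv, h0, inv_inv]
  have h2 : ∀ n : ℕ, ((MulAut.conj g ^ 2) ^ n) x = x := by
    intro n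
    induction n with
    | zero => rfl
    | succ n ih => rw [pow_succ, MulAut.mul_apply, h1, ih]
  have h3 : MulAut.conj (g ^ N.index) x = x⁻¹ := by
    rw [map_pow, hk, pow_add, pow_mul, pow_one, MulAut.mul_apply, h0, map_inv, h2]
  exact h3

variable {G : Type u} [Group G] [Finite G] {M : Ideal AlgInt}

/-- `k(B₀) = 5`, `64 ∣ |G|`: the 2-elements are real. -/
theorem isConj_inv (hM : IsPModular 2 M) (h5 : Nat.card (principalBlock M G) = 5) (hd : 64 ∣ Nat.card G)
    {x : G} {k : ℕ} (hx : orderOf x = 2 ^ k) : IsConj x x⁻¹ := by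
  have h0 : 0 < Nat.card G := Nat.card_pos
  have hcop : (Nat.card G - 1).Coprime (Nat.card G) := by
    have h1 : Nat.card G = (Nat.card G - 1) + 1 := by omega
    rw [h1]
    simp
  have h1 := isConj_pow hM h5 hd hx hcop
  have h2 : x ^ (Nat.card G - 1) = x⁻¹ := by
    rw [eq_inv_iff_mul_eq_one, ← pow_succ]
    have h3 : Nat.card G - 1 + 1 = Nat.card G := by omega
    rw [h3, pow_card_eq_one']
  rwa [h2] at h1

/-- **The row `Sz(8)`.** -/
theorem row_sz8 {S : Subgroup G} (h : Sit M G S) (e : IsSz8 S) : False := by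
  have hS := h.normal
  obtain ⟨F, i1, i2, hF, ⟨e⟩⟩ := e
  have h8 : Fintype.card F = 2 ^ (2 * 1 + 1) := by rw [hF]; norm_num
  have hcard : Nat.card S = 2 ^ 6 * 455 := by
    have h1 := (Cfsg.Agent.S1163.result (F := F) (m := 1) le_rfl h8).1
    rw [Nat.card_congr e.toEquiv]
    exact h1.trans (by norm_num)
  have h64 : 64 ∣ Nat.card G := by
    have h1 := S.card_subgroup_dvd_card
    rw [hcard] at h1
    exact (Dvd.intro 455 (by norm_num)).trans h1
  let R : Cfsg.Agent.ThreePrime.SzRel.Rel S F :=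
    (ofGood (Cfsg.Agent.LieRecognition.SzMatrix.good h8)).map e.symm
  have hx : orderOf ((R.u 1 0 : S) : G) = 2 ^ 2 := by
    rw [orderOf_coe]
    exact sz_orderOf_x R
  obtain ⟨g, hg, hgx⟩ := exists_inverting S h.odd (isConj_inv h.modular h.five.card h64 hx)
  exact sz_not_real R (isConj_iff.2 ⟨⟨g, hg⟩, Subtype.ext hgx⟩)

end Cfsg.Agent.H844.K5
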