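import Mathlib
import Cfsg.Agent.H774.K0.Six
import Cfsg.Agent.S0960
import Cfsg.Agent.H634.Small
import Cfsg.Agent.SmallSimple.SylowPrimeCount

/-!
# S4874, `p` odd (helper844): `k(B₀) = 5` implies `|P| ∈ {5, 7}`
-/

set_option autoImplicit false

open Cfsg

namespace Cfsg.Agent.H844.K5

universe u

theorem card_of_odd {G : Type u} [Group G] [Finite G] {p : ℕ} [hp : Fact p.Prime] (hp2 : p ≠ 2)
    {M : Ideal AlgInt} (hM : IsPModular p M) (hk : Nat.card (principalBlock M G) = 5) (P : Sylow p G) :
    Nat.card (P : Subgroup G) = 5 ∨ Nat.card (P : Subgroup G) = 7 := by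
  have hfin : Finite (principalBlock M G) := Nat.finite_of_card_ne_zero (by omega)
  have hp2' : ¬ p ^ 2 ∣ Nat.card G := by
    intro hd
    have h1 := H774.K0.six_le_card hp2 hM hd
    have h2 : Nat.card {χ : IrrCharacter G // χ ∈ principalBlock M G ∧ ¬ p ∣ charDegree (χ : G → ℂ)} ≤
        Nat.card (principalBlock M G) := by
      refine Nat.card_le_card_of_injective (fun χ => (⟨χ.1, χ.2.1⟩ : principalBlock M G)) ?_
      intro χ ψ h
      exact Subtype.ext (congrArg (fun x : principalBlock M G => (x : IrrCharacter G)) h)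
    omega
  obtain ⟨n, hn⟩ := IsPGroup.iff_card.1 P.isPGroup'
  have hn2 : n < 2 := by
    by_contra hcon
    exact hp2' ((pow_dvd_pow p (by omega : 2 ≤ n)).trans (hn ▸ Subgroup.card_subgroup_dvd_card (P : Subgroup G)))
  have hn01 : n = 0 ∨ n = 1 := by omega
  rcases hn01 with rfl | rfl
  · exfalso
    rw [pow_zero] at hn
    have hc := H634.Asm.compl_of_card_one P hn
    have h1 := H634.Small.card_of_compl hM hc
    have h2 := H634.Small.index_eq P hc
    rw [hn] at h2
    have h3 : Subsingleton (G ⧸ pPrimeCore p G) := (Nat.card_eq_one_iff_unique.1 h2).1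
    have h4 : Nat.card (ConjClasses (G ⧸ pPrimeCore p G)) ≤ Nat.card (G ⧸ pPrimeCore p G) :=
      Nat.card_le_card_of_surjective _ (ConjClasses.mk_surjective)
    omega
  · rw [pow_one] at hn
    have h1 := (S0960.result p M hM hp2 P hn _ rfl).1
    have h2 := SmallSimple.SylowPrimeCount.relIndex_dvd_pred hp.out (P := (P : Subgroup G)) hn
    rw [hk] at h1
    generalize (Subgroup.centralizer ((P : Subgroup G) : Set G)).relIndex
      (Subgroup.normalizer ((P : Subgroup G) : Set G)) = e at h1 h2
    obtain ⟨f, hf⟩ := h2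
    have hp1 := hp.out.two_le
    have he : 0 < e := by
      rcases Nat.eq_zero_or_pos e with h0 | h0
      · rw [h0, zero_mul] at hf
        omega
      · exact h0
    rw [hf, Nat.mul_div_cancel_left _ he] at h1
    have he5 : e ≤ 5 := by omega
    rw [hn]
    interval_cases e <;> omega

end Cfsg.Agent.H844.K5
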